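import Mathlib

/-!
Control of fusion by the normaliser of an elementary abelian subgroup containing all involutions
of a Sylow 2-subgroup.
-/

set_option autoImplicit false

namespace CfsgLib.TwoCentral

open Subgroup
open scoped Pointwise

variable {G : Type*} [Group G]

/-- The elements normalising `F` which fix its involutions and move each element by an involution. -/
def quad (F : Subgroup G) (hF : ∀ a ∈ F, ∀ b ∈ F, a * a = 1 → b * b = 1 → a * b = b * a) :
    Subgroup G where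
  carrier := {n | n ∈ normalizer (F : Set G) ∧ (∀ d ∈ F, d * d = 1 → n * d * n⁻¹ = d) ∧
    ∀ d ∈ F, (n * d * n⁻¹ * d⁻¹) * (n * d * n⁻¹ * d⁻¹) = 1}
  one_mem' := ⟨one_mem _, fun d _ _ => by simp, fun d _ => by simp⟩
  mul_mem' := by
    rintro n m ⟨hn, hn1, hn2⟩ ⟨hm, hm1, hm2⟩
    refine ⟨mul_mem hn hm, fun d hd hdd => ?_, fun d hd => ?_⟩
    · calc n * m * d * (n * m)⁻¹ = n * (m * d * m⁻¹) * n⁻¹ := by group
        _ = d := by rw [hm1 d hd hdd, hn1 d hd hdd]
    · have hc : m * d * m⁻¹ * d⁻¹ ∈ F := mul_mem ((mem_normalizer_iff.1 hm d).1 hd) (inv_mem hd)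
      have hc' : n * d * n⁻¹ * d⁻¹ ∈ F := mul_mem ((mem_normalizer_iff.1 hn d).1 hd) (inv_mem hd)
      have e : n * m * d * (n * m)⁻¹ * d⁻¹ =
          (m * d * m⁻¹ * d⁻¹) * (n * d * n⁻¹ * d⁻¹) := by
        calc n * m * d * (n * m)⁻¹ * d⁻¹
            = (n * (m * d * m⁻¹ * d⁻¹) * n⁻¹) * (n * d * n⁻¹ * d⁻¹) := by group
          _ = _ := by rw [hn1 _ hc (hm2 d hd)]
      rw [e]
      have hu0 := hm2 d hd
      have hv0 := hn2 d hd
      have hcomm := hF _ hc _ hc' hu0 hv0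
      generalize m * d * m⁻¹ * d⁻¹ = u at *
      generalize n * d * n⁻¹ * d⁻¹ = v at *
      calc u * v * (u * v) = u * (v * u) * v := by group
        _ = (u * u) * (v * v) := by rw [← hcomm]; group
        _ = 1 := by
          rw [hu0, hv0, one_mul]
  inv_mem' := by
    rintro n ⟨hn, hn1, hn2⟩
    refine ⟨inv_mem hn, fun d hd hdd => ?_, fun d hd => ?_⟩
    · conv_lhs => rw [← hn1 d hd hdd]
      group
    · have hd' : n⁻¹ * d * n ∈ F := by
        have := (mem_normalizer_iff.1 (inv_mem hn) d).1 hd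
        rwa [inv_inv] at this
      have h := hn2 _ hd'
      have e : n⁻¹ * d * n⁻¹⁻¹ * d⁻¹ = (n * (n⁻¹ * d * n) * n⁻¹ * (n⁻¹ * d * n)⁻¹)⁻¹ := by group
      rw [e, ← mul_inv_rev, h, inv_one]

theorem sq_mem_centralizer {F : Subgroup G}
    {hF : ∀ a ∈ F, ∀ b ∈ F, a * a = 1 → b * b = 1 → a * b = b * a} {n : G} (hn : n ∈ quad F hF) :
    n * n ∈ centralizer (F : Set G) := by
  obtain ⟨hn, hn1, hn2⟩ := hn
  refine mem_centralizer_iff.2 fun d hd => ?_
  have hc : n * d * n⁻¹ * d⁻¹ ∈ F := mul_mem ((mem_normalizer_iff.1 hn d).1 hd) (inv_mem hd)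
  have e : n * n * d * (n * n)⁻¹ * d⁻¹ =
      (n * (n * d * n⁻¹ * d⁻¹) * n⁻¹) * (n * d * n⁻¹ * d⁻¹) := by group
  rw [hn1 _ hc (hn2 d hd), hn2 d hd, mul_inv_eq_one, mul_inv_eq_iff_eq_mul] at e
  exact e.symm

theorem quad_conj {F : Subgroup G}
    {hF : ∀ a ∈ F, ∀ b ∈ F, a * a = 1 → b * b = 1 → a * b = b * a} {n x : G} (hn : n ∈ quad F hF)
    (hx : x ∈ normalizer (F : Set G)) : x * n * x⁻¹ ∈ quad F hF := by
  obtain ⟨hn, hn1, hn2⟩ := hn
  have hd' : ∀ d ∈ F, x⁻¹ * d * x ∈ F := fun d hd => by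
    have := (mem_normalizer_iff.1 (inv_mem hx) d).1 hd
    rwa [inv_inv] at this
  refine ⟨mul_mem (mul_mem hx hn) (inv_mem hx), fun d hd hdd => ?_, fun d hd => ?_⟩
  · have h := hn1 _ (hd' d hd) (by
      calc x⁻¹ * d * x * (x⁻¹ * d * x) = x⁻¹ * (d * d) * x := by group
        _ = 1 := by rw [hdd]; group)
    calc x * n * x⁻¹ * d * (x * n * x⁻¹)⁻¹ = x * (n * (x⁻¹ * d * x) * n⁻¹) * x⁻¹ := by group
      _ = d := by rw [h]; group
  · calc x * n * x⁻¹ * d * (x * n * x⁻¹)⁻¹ * d⁻¹ * (x * n * x⁻¹ * d * (x * n * x⁻¹)⁻¹ * d⁻¹)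
        = x * ((n * (x⁻¹ * d * x) * n⁻¹ * (x⁻¹ * d * x)⁻¹) *
            (n * (x⁻¹ * d * x) * n⁻¹ * (x⁻¹ * d * x)⁻¹)) * x⁻¹ := by group
      _ = 1 := by rw [hn2 _ (hd' d hd)]; group

variable [Finite G]

set_option maxHeartbeats 1000000 in
/-- Conjugation by a member of `normalizer F` preserving `quad F` can be corrected inside `C(F)`. -/
theorem exists_centralizer_conj (P : Sylow 2 G) {F : Subgroup G}
    (hsyl : ¬ 2 ∣ ((P : Subgroup G) ⊓ normalizer (F : Set G)).relIndex (normalizer (F : Set G)))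
    (hF : ∀ a ∈ F, ∀ b ∈ F, a * a = 1 → b * b = 1 → a * b = b * a)
    {R : Subgroup G} (hR : IsPGroup 2 R) (hRW : R ≤ quad F hF) :
    ∃ c ∈ centralizer (F : Set G), ∀ r ∈ R, c * r * c⁻¹ ∈ (P : Subgroup G) := by
  haveI : Fact (Nat.Prime 2) := ⟨Nat.prime_two⟩
  set N := normalizer (F : Set G) with hN
  set W := quad F hF
  have hWN : W ≤ N := fun n hn => hn.1
  let U : Sylow 2 N := IsPGroup.toSylow
    (P := ((P : Subgroup G) ⊓ N).subgroupOf N)
    ((P.2.to_le inf_le_left).of_equiv (subgroupOfEquivOfLe inf_le_right).symm) hsyl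
  haveI hWn : (W.subgroupOf N).Normal := ⟨fun n hn x => quad_conj (hF := hF) hn x.2⟩
  obtain ⟨U', hU'⟩ := (hR.of_equiv (subgroupOfEquivOfLe (hRW.trans hWN)).symm).exists_le_sylow
  obtain ⟨y, hy⟩ := MulAction.exists_smul_eq N U' U
  -- Sylow subgroups of the normal subgroup
  set T := (W.subgroupOf N) with hT
  let UT : Sylow 2 T := IsPGroup.toSylow (P := (U : Subgroup N).subgroupOf T)
    (U.2.comap_of_injective _ T.subtype_injective) (by
      intro h
      refine U.not_dvd_index (h.trans ?_)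
      obtain ⟨e, he⟩ := relIndex_dvd_index_of_normal T (U : Subgroup N)
      have h3 := relIndex_mul_index (inf_le_left : (U : Subgroup N) ⊓ T ≤ U)
      rw [inf_relIndex_left] at h3
      have h4 := relIndex_mul_index (inf_le_right : (U : Subgroup N) ⊓ T ≤ T)
      rw [inf_relIndex_right] at h4
      have h5 : T.relIndex U * (U : Subgroup N).index =
          T.relIndex U * ((U : Subgroup N).relIndex T * e) := by
        rw [h3, ← h4, he]; ring
      refine Dvd.intro e (Nat.eq_of_mul_eq_mul_left ?_ h5).symm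
      exact Nat.pos_of_ne_zero Subgroup.index_ne_zero_of_finite)
  have hRT : R.subgroupOf N ≤ T := fun r hr => hRW hr
  obtain ⟨V, hV⟩ := ((hR.of_equiv (subgroupOfEquivOfLe (hRW.trans hWN)).symm).of_equiv
    (subgroupOfEquivOfLe hRT).symm).exists_le_sylow
  obtain ⟨w, hw⟩ := MulAction.exists_smul_eq T V UT
  have hwr : ∀ r ∈ R, (w : G) * r * (w : G)⁻¹ ∈ (P : Subgroup G) ⊓ N := by
    intro r hr
    have h1 : w * ⟨⟨r, hWN (hRW hr)⟩, hRW hr⟩ * w⁻¹ ∈ UT := by
      rw [← hw]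
      exact ⟨⟨⟨r, hWN (hRW hr)⟩, hRW hr⟩, hV (by exact hr), rfl⟩
    exact h1
  -- split `w` into a central part and a part inside the Sylow subgroup
  let C : Subgroup T := ((centralizer (F : Set G)).subgroupOf N).subgroupOf T
  haveI : C.Normal := by
    haveI : ((centralizer (F : Set G)).subgroupOf N).Normal := ⟨fun a ha x => by
      refine mem_centralizer_iff.2 fun d hd => ?_
      have hd' : (x : G)⁻¹ * d * x ∈ F := by
        have := (mem_normalizer_iff.1 (inv_mem x.2) d).1 hd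
        rwa [inv_inv] at this
      have h := mem_centralizer_iff.1 ha _ hd'
      show d * ((x : G) * a * (x : G)⁻¹) = (x : G) * a * (x : G)⁻¹ * d
      calc d * ((x : G) * a * (x : G)⁻¹) = (x : G) * (((x : G)⁻¹ * d * x) * a) * (x : G)⁻¹ := by group
        _ = (x : G) * ((a : G) * ((x : G)⁻¹ * d * x)) * (x : G)⁻¹ :=
            congrArg (fun t => (x : G) * t * (x : G)⁻¹) h
        _ = _ := by group⟩
    infer_instance
  have hq : IsPGroup 2 (T ⧸ C) := by
    intro a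
    obtain ⟨t, rfl⟩ := QuotientGroup.mk_surjective a
    refine ⟨1, ?_⟩
    rw [← QuotientGroup.mk_pow, QuotientGroup.eq_one_iff, pow_one, pow_two]
    exact sq_mem_centralizer (hF := hF) t.2
  have htop : (UT : Subgroup T) ⊔ C = ⊤ := by
    obtain ⟨k, hk⟩ := IsPGroup.iff_card.1 hq
    rw [← index_eq_one]
    have h1 : ((UT : Subgroup T) ⊔ C).index ∣ (UT : Subgroup T).index := index_dvd_of_le le_sup_left
    have h2 : ((UT : Subgroup T) ⊔ C).index ∣ 2 ^ k := by
      rw [← hk, ← Subgroup.index]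
      exact index_dvd_of_le le_sup_right
    exact Nat.eq_one_of_dvd_coprimes ((Nat.prime_two.coprime_iff_not_dvd.2 UT.not_dvd_index).pow_left k) h2 h1
  obtain ⟨u, hu, c, hc, huc⟩ := Subgroup.mem_sup_of_normal_right.1 (htop.ge (mem_top w))
  refine ⟨(c : G), hc, fun r hr => ?_⟩
  have huP : (u : G) ∈ (P : Subgroup G) := (show (u : G) ∈ (P : Subgroup G) ⊓ N from hu).1
  have h := hwr r hr
  rw [show (w : G) = (u : G) * c from by rw [← huc]; rfl] at h
  have := mul_mem (mul_mem (inv_mem huP) h.1) huP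
  rwa [show (u : G)⁻¹ * ((u : G) * c * r * ((u : G) * c)⁻¹) * u = (c : G) * r * (c : G)⁻¹ by group] at this

set_option maxHeartbeats 1000000 in
/-- The normaliser of `E` controls fusion in `P`. -/
theorem exists_normalizer_conj (P : Sylow 2 G) (E : Subgroup G)
    (hE : ∀ x, x ∈ E ↔ x ∈ (P : Subgroup G) ∧ x * x = 1) (hEc : ∀ a ∈ E, ∀ b ∈ E, a * b = b * a)
    (g : G) (D : Subgroup G) (hD : D ≤ (P : Subgroup G))
    (hg : ∀ d ∈ D, g * d * g⁻¹ ∈ (P : Subgroup G)) :
    ∃ n ∈ normalizer (E : Set G), ∀ d ∈ D, n * d * n⁻¹ = g * d * g⁻¹ := by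
  classical
  haveI : Fact (Nat.Prime 2) := ⟨Nat.prime_two⟩
  induction hk : Nat.card G - Nat.card D using Nat.strong_induction_on generalizing D g with
  | _ k ih =>
  have hPN : (P : Subgroup G) ≤ normalizer (E : Set G) := fun u hu => by
    refine mem_normalizer_iff.2 fun x => ?_
    rw [hE, hE]
    refine and_congr ⟨fun hx => mul_mem (mul_mem hu hx) (inv_mem hu), fun hx => ?_⟩ ?_
    · have := mul_mem (mul_mem (inv_mem hu) hx) hu
      rwa [show u⁻¹ * (u * x * u⁻¹) * u = x by group] at this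
    · rw [show u * x * u⁻¹ * (u * x * u⁻¹) = u * (x * x) * u⁻¹ by group, conj_eq_one_iff]
  -- conjugation onto a fully normalised subgroup
  have key : ∀ (D₀ : Subgroup G) (g : G), Nat.card D₀ = Nat.card D → D₀ ≤ (P : Subgroup G) →
      (∀ d ∈ D₀, g * d * g⁻¹ ∈ (P : Subgroup G)) →
      ¬ 2 ∣ ((P : Subgroup G) ⊓ normalizer ((D₀.map (MulAut.conj g).toMonoidHom) : Set G)).relIndex
        (normalizer ((D₀.map (MulAut.conj g).toMonoidHom) : Set G)) →
      ∃ n ∈ normalizer (E : Set G), ∀ d ∈ D₀, n * d * n⁻¹ = g * d * g⁻¹ := by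
    clear hg hD
    intro D₀ g hc₀ hD hg hsyl
    rw [← hc₀] at hk
    clear hc₀ D
    rename' D₀ => D
    by_cases hED : E ≤ D
    · refine ⟨g, ?_, fun d _ => rfl⟩
      refine Subgroup.mem_normalizer_iff_map_conj_eq.2 ?_
      refine eq_of_le_of_card_ge ?_ (card_map_of_injective (MulAut.conj g).injective).ge
      rintro _ ⟨x, hx, rfl⟩
      refine (hE _).2 ⟨hg x (hED hx), ?_⟩
      show g * x * g⁻¹ * (g * x * g⁻¹) = 1
      rw [show g * x * g⁻¹ * (g * x * g⁻¹) = g * (x * x) * g⁻¹ by group, ((hE x).1 hx).2]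
      group
    -- a larger subgroup, obtained from elements of `E` normalising `D`
    set D1 := D ⊔ (E ⊓ normalizer (D : Set G)) with hD1
    have hEP : E ≤ (P : Subgroup G) := fun x hx => ((hE x).1 hx).1
    have hD1P : D1 ≤ (P : Subgroup G) := sup_le hD (inf_le_left.trans hEP)
    have hlt : D < D1 := by
      refine lt_of_le_of_ne le_sup_left fun he => ?_
      set M := D ⊔ E
      have hDM : D < M := lt_of_le_of_ne le_sup_left fun h => hED (h ▸ le_sup_right)
      haveI : Group.IsNilpotent M := (P.2.to_le (sup_le hD hEP)).isNilpotent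
      obtain ⟨u, hu, hu'⟩ := SetLike.exists_of_lt
        (Group.normalizerCondition_of_isNilpotent (D.subgroupOf M)
          (lt_top_iff_ne_top.2 fun h => hDM.not_ge (subgroupOf_eq_top.1 h)))
      refine hu' ?_
      have huN : (u : G) ∈ normalizer (D : Set G) := by
        refine mem_normalizer_iff.2 fun z => ⟨fun hz => ?_, fun hz => ?_⟩
        · exact (mem_normalizer_iff.1 hu ⟨z, hDM.le hz⟩).1 hz
        · have hz' : z ∈ M := by
            have h3 := mul_mem (mul_mem (inv_mem u.2) (hDM.le hz)) u.2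
            rwa [show (u : G)⁻¹ * ((u : G) * z * (u : G)⁻¹) * u = z by group] at h3
          exact (mem_normalizer_iff.1 hu ⟨z, hz'⟩).2 hz
      have hmem : (u : G) ∈ ((D : Set G) * (E : Set G)) := by
        rw [← coe_mul_of_left_le_normalizer_right D E (hD.trans hPN)]
        exact u.2
      obtain ⟨d, hd, e, he', hue⟩ := Set.mem_mul.1 hmem
      have heN : e ∈ normalizer (D : Set G) := by
        rw [show e = d⁻¹ * (u : G) by rw [← hue]; group]
        exact mul_mem (inv_mem (le_normalizer hd)) huN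
      show (u : G) ∈ D
      rw [← hue]
      exact mul_mem hd (he ▸ mem_sup_right ⟨he', heN⟩)
    have hcard : Nat.card G - Nat.card D1 < k := by
      have h1 := card_le_card_group D1
      have h2 : Nat.card D < Nat.card D1 := by
        by_contra hc
        exact hlt.ne (eq_of_le_of_card_ge hlt.le (not_lt.1 hc))
      omega
    set F := D.map (MulAut.conj g).toMonoidHom
    have hFP : F ≤ (P : Subgroup G) := by rintro _ ⟨d, hd, rfl⟩; exact hg d hd
    have hF : ∀ a ∈ F, ∀ b ∈ F, a * a = 1 → b * b = 1 → a * b = b * a := fun a ha b hb ha2 hb2 =>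
      hEc a ((hE a).2 ⟨hFP ha, ha2⟩) b ((hE b).2 ⟨hFP hb, hb2⟩)
    have hRW : (E ⊓ normalizer (D : Set G)).map (MulAut.conj g).toMonoidHom ≤ quad F hF := by
      rintro _ ⟨e, ⟨he, heN⟩, rfl⟩
      show g * e * g⁻¹ ∈ quad F hF
      have hmem : ∀ f ∈ F, g⁻¹ * f * g ∈ D := by
        rintro _ ⟨d, hd, rfl⟩
        show g⁻¹ * (g * d * g⁻¹) * g ∈ D
        rwa [show g⁻¹ * (g * d * g⁻¹) * g = d by group]
      refine ⟨mem_normalizer_iff.2 fun f => ⟨?_, fun hf => ?_⟩, fun f hf hff => ?_, fun f hf => ?_⟩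
      · rintro ⟨d, hd, rfl⟩
        refine ⟨e * d * e⁻¹, (mem_normalizer_iff.1 heN d).1 hd, ?_⟩
        show g * (e * d * e⁻¹) * g⁻¹ = g * e * g⁻¹ * (g * d * g⁻¹) * (g * e * g⁻¹)⁻¹
        group
      · obtain ⟨d, hd, hde⟩ := hf
        refine ⟨e⁻¹ * d * e, ?_, ?_⟩
        · have := (mem_normalizer_iff.1 (inv_mem heN) d).1 hd
          rwa [inv_inv] at this
        · have hde : g * d * g⁻¹ = g * e * g⁻¹ * f * (g * e * g⁻¹)⁻¹ := hde
          show g * (e⁻¹ * d * e) * g⁻¹ = f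
          calc g * (e⁻¹ * d * e) * g⁻¹ = (g * e * g⁻¹)⁻¹ * (g * d * g⁻¹) * (g * e * g⁻¹) := by group
            _ = f := by rw [hde]; group
      · have hd := hmem f hf
        have hc := hEc e he _ ((hE _).2 ⟨hD hd, by
          rw [show g⁻¹ * f * g * (g⁻¹ * f * g) = g⁻¹ * (f * f) * g by group, hff]; group⟩)
        calc g * e * g⁻¹ * f * (g * e * g⁻¹)⁻¹ = g * (e * (g⁻¹ * f * g) * e⁻¹) * g⁻¹ := by group
          _ = f := by rw [hc]; group
      · have hd := hmem f hf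
        have hc : e * (g⁻¹ * f * g) * e⁻¹ * (g⁻¹ * f * g)⁻¹ ∈ E := by
          have h1 := (mem_normalizer_iff.1 (hPN (hD hd)) e⁻¹).1 (inv_mem he)
          rw [show e * (g⁻¹ * f * g) * e⁻¹ * (g⁻¹ * f * g)⁻¹ =
            e * ((g⁻¹ * f * g) * e⁻¹ * (g⁻¹ * f * g)⁻¹) by group]
          exact mul_mem he h1
        have h2 := ((hE _).1 hc).2
        calc g * e * g⁻¹ * f * (g * e * g⁻¹)⁻¹ * f⁻¹ * (g * e * g⁻¹ * f * (g * e * g⁻¹)⁻¹ * f⁻¹)
            = g * ((e * (g⁻¹ * f * g) * e⁻¹ * (g⁻¹ * f * g)⁻¹) *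
                (e * (g⁻¹ * f * g) * e⁻¹ * (g⁻¹ * f * g)⁻¹)) * g⁻¹ := by group
          _ = 1 := by rw [h2]; group
    obtain ⟨c, hc, hcr⟩ := exists_centralizer_conj P hsyl hF
      ((P.2.to_le (inf_le_left.trans hEP)).map _) hRW
    have hcd : ∀ d ∈ D, c * g * d * (c * g)⁻¹ = g * d * g⁻¹ := by
      intro d hd
      have h := mem_centralizer_iff.1 hc _ ⟨d, hd, rfl⟩
      have h : g * d * g⁻¹ * c = c * (g * d * g⁻¹) := h
      calc c * g * d * (c * g)⁻¹ = c * (g * d * g⁻¹) * c⁻¹ := by group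
        _ = _ := by rw [← h]; group
    have hD1g : ∀ d ∈ D1, c * g * d * (c * g)⁻¹ ∈ (P : Subgroup G) := by
      intro d hd
      have hle : D1 ≤ (P : Subgroup G).comap (MulAut.conj (c * g)).toMonoidHom := by
        refine sup_le (fun d hd => ?_) fun e he => ?_
        · show c * g * d * (c * g)⁻¹ ∈ (P : Subgroup G)
          rw [hcd d hd]
          exact hg d hd
        · show c * g * e * (c * g)⁻¹ ∈ (P : Subgroup G)
          have := hcr _ ⟨e, he, rfl⟩
          rwa [show c * g * e * (c * g)⁻¹ = c * (g * e * g⁻¹) * c⁻¹ by group]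
      exact hle hd
    obtain ⟨n, hn, hnd⟩ := ih _ hcard (c * g) D1 hD1P hD1g rfl
    exact ⟨n, hn, fun d hd => by rw [hnd d (le_sup_left (a := D) hd), hcd d hd]⟩
  obtain ⟨U⟩ : Nonempty (Sylow 2 (normalizer (D : Set G))) := inferInstance
  obtain ⟨Q, hQ⟩ := (U.2.map (normalizer (D : Set G)).subtype).exists_le_sylow
  obtain ⟨a, ha⟩ := MulAction.exists_smul_eq G Q P
  have hUP : ∀ u ∈ U, a * (u : G) * a⁻¹ ∈ (P : Subgroup G) := fun u hu => by
    rw [← ha]
    exact ⟨u, hQ ⟨u, hu, rfl⟩, rfl⟩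
  have haD : ∀ d ∈ D, a * d * a⁻¹ ∈ (P : Subgroup G) := by
    intro d hd
    have hU : (D.subgroupOf (normalizer (D : Set G))) ≤ (U : Subgroup ↥(normalizer (D : Set G))) :=
      ((P.2.to_le hD).of_equiv (subgroupOfEquivOfLe le_normalizer).symm).le_sylow_of_normal (N := D.subgroupOf _) U
    exact hUP ⟨d, le_normalizer hd⟩ (hU hd)
  have hasyl : ¬ 2 ∣ ((P : Subgroup G) ⊓ normalizer ((D.map (MulAut.conj a).toMonoidHom) : Set G)).relIndex
      (normalizer ((D.map (MulAut.conj a).toMonoidHom) : Set G)) := by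
    have heq : normalizer ((D.map (MulAut.conj a).toMonoidHom) : Set G) =
        (normalizer (D : Set G)).map (MulAut.conj a).toMonoidHom :=
      (map_equiv_normalizer_eq D (MulAut.conj a)).symm
    rw [heq]
    intro h
    refine U.not_dvd_index ?_
    have h1 : (((U : Subgroup ↥(normalizer (D : Set G))).map (normalizer (D : Set G)).subtype).map (MulAut.conj a).toMonoidHom).relIndex
        ((normalizer (D : Set G)).map (MulAut.conj a).toMonoidHom) = (U : Subgroup ↥(normalizer (D : Set G))).index := by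
      rw [relIndex_map_map_of_injective _ _ (MulAut.conj a).injective, relIndex, subgroupOf,
        comap_map_eq_self_of_injective (normalizer (D : Set G)).subtype_injective]
    rw [← h1]
    refine h.trans (relIndex_dvd_of_le_left _ (le_inf ?_ (map_mono (map_subtype_le _))))
    rintro _ ⟨_, ⟨u, hu, rfl⟩, rfl⟩
    exact hUP u hu
  obtain ⟨n₁, hn₁, h₁⟩ := key D a rfl hD haD hasyl
  -- the image of `D` under `g`, mapped to the same subgroup
  set D' := D.map (MulAut.conj g).toMonoidHom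
  have hmap : D'.map (MulAut.conj (a * g⁻¹)).toMonoidHom = D.map (MulAut.conj a).toMonoidHom := by
    rw [Subgroup.map_map]
    congr 1
    refine MonoidHom.ext fun x => ?_
    show a * g⁻¹ * (g * x * g⁻¹) * (a * g⁻¹)⁻¹ = a * x * a⁻¹
    group
  obtain ⟨n₂, hn₂, h₂⟩ := key D' (a * g⁻¹) (card_map_of_injective (MulAut.conj g).injective)
    (by rintro _ ⟨d, hd, rfl⟩; exact hg d hd)
    (by
      rintro _ ⟨d, hd, rfl⟩
      show a * g⁻¹ * (g * d * g⁻¹) * (a * g⁻¹)⁻¹ ∈ (P : Subgroup G)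
      rw [show a * g⁻¹ * (g * d * g⁻¹) * (a * g⁻¹)⁻¹ = a * d * a⁻¹ by group]
      exact haD d hd)
    (by rw [hmap]; exact hasyl)
  refine ⟨n₂⁻¹ * n₁, mul_mem (inv_mem hn₂) hn₁, fun d hd => ?_⟩
  have h : n₂ * (g * d * g⁻¹) * n₂⁻¹ = a * g⁻¹ * (g * d * g⁻¹) * (a * g⁻¹)⁻¹ :=
    h₂ _ ⟨d, hd, rfl⟩
  calc n₂⁻¹ * n₁ * d * (n₂⁻¹ * n₁)⁻¹ = n₂⁻¹ * (n₁ * d * n₁⁻¹) * n₂ := by group
    _ = n₂⁻¹ * (a * g⁻¹ * (g * d * g⁻¹) * (a * g⁻¹)⁻¹) * n₂ := by rw [h₁ d hd]; group
    _ = g * d * g⁻¹ := by rw [← h]; group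

end CfsgLib.TwoCentral
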