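import Cfsg.Agent.Lib.TwoCentral.Fusion

/-!
If every 2-element centralises a Sylow 2-subgroup, then the Sylow 2-subgroups are abelian.
-/

set_option autoImplicit false

namespace CfsgLib.TwoCentral

open Subgroup
open scoped Pointwise

universe u

/-- Every element of 2-power order has centraliser of odd index. -/
def OddClasses (G : Type u) [Group G] : Prop :=
  ∀ x : G, (∃ k : ℕ, orderOf x = 2 ^ k) → ¬ 2 ∣ (centralizer ({x} : Set G)).index

variable {G : Type u} [Group G] [Finite G]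

theorem exists_pow_of_mem (P : Sylow 2 G) {x : G} (hx : x ∈ (P : Subgroup G)) :
    ∃ k : ℕ, orderOf x = 2 ^ k := by
  haveI : Fact (Nat.Prime 2) := ⟨Nat.prime_two⟩
  obtain ⟨k, hk⟩ := IsPGroup.iff_orderOf.1 P.2 ⟨x, hx⟩
  exact ⟨k, by rwa [← Subgroup.orderOf_coe] at hk⟩

/-- An element whose class has odd size and which is conjugate to its inverse squares to `1`. -/
theorem mul_self_eq_one {x : G} (hx : ¬ 2 ∣ (centralizer ({x} : Set G)).index) {y : G}
    (hy : y * x * y⁻¹ = x⁻¹) : x * x = 1 := by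
  by_contra h
  let M : Subgroup G :=
    { carrier := {g | g * x * g⁻¹ = x ∨ g * x * g⁻¹ = x⁻¹}
      one_mem' := Or.inl (by group)
      mul_mem' := by
        rintro a b ha hb
        have e : a * b * x * (a * b)⁻¹ = a * (b * x * b⁻¹) * a⁻¹ := by group
        have e' : a * x⁻¹ * a⁻¹ = (a * x * a⁻¹)⁻¹ := by group
        rcases ha with ha | ha <;> rcases hb with hb | hb
        · exact Or.inl (by rw [e, hb, ha])
        · exact Or.inr (by rw [e, hb, e', ha])
        · exact Or.inr (by rw [e, hb, ha])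
        · exact Or.inl (by rw [e, hb, e', ha, inv_inv])
      inv_mem' := by
        rintro a (ha | ha)
        · refine Or.inl ?_
          conv_lhs => rw [← ha]
          group
        · refine Or.inr ?_
          conv_lhs => rw [← inv_inv x, ← ha]
          group }
  have hle : centralizer ({x} : Set G) ≤ M := fun g hg => Or.inl (by
    rw [mul_inv_eq_iff_eq_mul]; exact (mem_centralizer_singleton_iff.1 hg).symm ▸ rfl)
  have hyC : y ∉ centralizer ({x} : Set G) := fun hc => h (by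
    have h1 := mem_centralizer_singleton_iff.1 hc
    have h2 : y * x * y⁻¹ = x := by rw [h1]; group
    rw [h2] at hy
    nth_rewrite 2 [hy]
    exact mul_inv_cancel x)
  have hidx : (centralizer ({x} : Set G)).relIndex M = 2 := by
    rw [relIndex, index_eq_two_iff]
    refine ⟨⟨y, Or.inr hy⟩, fun b => ?_⟩
    simp only [mem_subgroupOf, Subgroup.coe_mul]
    have hb : (b : G) * x * (b : G)⁻¹ = x ∨ (b : G) * x * (b : G)⁻¹ = x⁻¹ := b.2
    have e : (b : G) * y * x * ((b : G) * y)⁻¹ = ((b : G) * x * (b : G)⁻¹)⁻¹ := by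
      calc (b : G) * y * x * ((b : G) * y)⁻¹ = (b : G) * (y * x * y⁻¹) * (b : G)⁻¹ := by group
        _ = _ := by rw [hy]; group
    have hC : ∀ g : G, g ∈ centralizer ({x} : Set G) ↔ g * x * g⁻¹ = x := fun g => by
      rw [mem_centralizer_singleton_iff, mul_inv_eq_iff_eq_mul]
    rw [hC, hC, e]
    have hne : x⁻¹ ≠ x := fun he => h (by nth_rewrite 2 [← he]; exact mul_inv_cancel x)
    rcases hb with hb | hb <;> rw [hb]
    · exact Or.inr ⟨rfl, hne⟩
    · exact Or.inl ⟨inv_inv x, hne⟩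
  exact hx (Dvd.intro _ (by rw [← relIndex_mul_index hle, hidx]))

theorem comm_involutions (hG : OddClasses G) (P : Sylow 2 G) {s t : G} (hs : s ∈ (P : Subgroup G))
    (ht : t ∈ (P : Subgroup G)) (hs2 : s * s = 1) (ht2 : t * t = 1) : s * t = t * s := by
  have hsi : s⁻¹ = s := inv_eq_of_mul_eq_one_right hs2
  have hti : t⁻¹ = t := inv_eq_of_mul_eq_one_right ht2
  have h := mul_self_eq_one (hG (s * t) (exists_pow_of_mem P (mul_mem hs ht))) (y := s) (by
    rw [mul_inv_rev, hsi, hti, ← mul_assoc, hs2, one_mul])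
  calc s * t = (s * t)⁻¹ := (inv_eq_of_mul_eq_one_right h).symm
    _ = _ := by rw [mul_inv_rev, hsi, hti]

/-- The hypothesis passes to normal subgroups. -/
theorem oddClasses_normal (hG : OddClasses G) (K : Subgroup G) [K.Normal] : OddClasses K := by
  intro x hx h
  refine hG x (by simpa using hx) (h.trans ?_)
  have e : centralizer ({x} : Set K) = (centralizer ({(x : G)} : Set G)).subgroupOf K := by
    ext g
    simp only [mem_subgroupOf, mem_centralizer_singleton_iff, Subtype.ext_iff, Subgroup.coe_mul]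
  rw [e]
  obtain ⟨e', he⟩ : (centralizer ({(x : G)} : Set G) ⊓ K).relIndex (centralizer ({(x : G)} : Set G)) ∣ K.index := by
    rw [inf_relIndex_left]
    exact relIndex_dvd_index_of_normal _ _
  have h3 := relIndex_mul_index (inf_le_left : centralizer ({(x : G)} : Set G) ⊓ K ≤ _)
  have h4 := relIndex_mul_index (inf_le_right : centralizer ({(x : G)} : Set G) ⊓ K ≤ K)
  rw [inf_relIndex_right] at h4
  have h5 : (centralizer ({(x : G)} : Set G) ⊓ K).relIndex (centralizer ({(x : G)} : Set G)) *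
      (centralizer ({(x : G)} : Set G)).index =
      (centralizer ({(x : G)} : Set G) ⊓ K).relIndex (centralizer ({(x : G)} : Set G)) *
        ((centralizer ({(x : G)} : Set G)).relIndex K * e') := by
    rw [h3, ← h4, he]; ring
  exact Dvd.intro e' (Nat.eq_of_mul_eq_mul_left (Nat.pos_of_ne_zero Subgroup.index_ne_zero_of_finite) h5).symm

/-- The hypothesis passes to the normaliser of the subgroup of involutions. -/
theorem oddClasses_normalizer (hG : OddClasses G) (P : Sylow 2 G) (E : Subgroup G)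
    (hE : ∀ x, x ∈ E ↔ x ∈ (P : Subgroup G) ∧ x * x = 1) (hEc : ∀ a ∈ E, ∀ b ∈ E, a * b = b * a)
    (hPN : (P : Subgroup G) ≤ normalizer (E : Set G)) :
    OddClasses (normalizer (E : Set G) : Subgroup G) := by
  haveI : Fact (Nat.Prime 2) := ⟨Nat.prime_two⟩
  set N := normalizer (E : Set G)
  intro x hx
  let PN : Sylow 2 N := P.subtype hPN
  obtain ⟨R, hR⟩ : ∃ R : Sylow 2 N, x ∈ (R : Subgroup N) := by
    obtain ⟨k, hk⟩ := hx
    obtain ⟨R, hR⟩ := (IsPGroup.of_card (G := zpowers x) (n := k)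
      (by rw [Nat.card_zpowers, hk])).exists_le_sylow
    exact ⟨R, hR (mem_zpowers x)⟩
  obtain ⟨m, hm⟩ := MulAction.exists_smul_eq N R PN
  set x' : G := (m : G) * x * (m : G)⁻¹ with hx'
  have hx'P : x' ∈ (P : Subgroup G) := by
    have : m * x * m⁻¹ ∈ (PN : Subgroup N) := hm ▸ ⟨x, hR, rfl⟩
    exact this
  obtain ⟨Q⟩ : Nonempty (Sylow 2 (centralizer ({x'} : Set G))) := inferInstance
  obtain ⟨Q', hQ'⟩ : ∃ Q' : Sylow 2 G, (Q' : Subgroup G) ≤ centralizer ({x'} : Set G) := by
    refine ⟨(Q.2.map (centralizer ({x'} : Set G)).subtype).toSylow ?_, ?_⟩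
    · rw [index_map_subtype]
      intro h
      rcases (Nat.prime_two.dvd_mul).1 h with h | h
      · exact Q.not_dvd_index h
      · exact hG x' (exists_pow_of_mem P hx'P) h
    · exact map_subtype_le _
  obtain ⟨g, hg⟩ := MulAction.exists_smul_eq G Q' P
  have hgP : ∀ u ∈ (P : Subgroup G), u * (g * x' * g⁻¹) = g * x' * g⁻¹ * u := by
    intro u hu
    rw [← hg] at hu
    obtain ⟨q, hq, rfl⟩ := hu
    have h1 := mem_centralizer_singleton_iff.1 (hQ' hq)
    show g * q * g⁻¹ * (g * x' * g⁻¹) = g * x' * g⁻¹ * (g * q * g⁻¹)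
    calc g * q * g⁻¹ * (g * x' * g⁻¹) = g * (q * x') * g⁻¹ := by group
      _ = _ := by rw [h1]; group
  have hgx : g * x' * g⁻¹ ∈ (P : Subgroup G) := by
    haveI : Group.IsNilpotent (P : Subgroup G) := P.2.isNilpotent
    obtain ⟨k, hk⟩ := exists_pow_of_mem P hx'P
    have hB : IsPGroup 2 ((P : Subgroup G) ⊔ zpowers (g * x' * g⁻¹) : Subgroup G) := by
      refine IsPGroup.to_sup_of_normal_right' P.2
        (IsPGroup.of_card (n := k) (by
          rw [Nat.card_zpowers, show g * x' * g⁻¹ = (MulAut.conj g).toMonoidHom x' from rfl,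
            orderOf_injective _ (MulAut.conj g).injective, hk])) ?_
      intro u hu
      refine mem_normalizer_iff.2 fun z => ?_
      have hc : ∀ z ∈ zpowers (g * x' * g⁻¹), u * z * u⁻¹ = z := by
        rintro z ⟨i, rfl⟩
        rw [mul_inv_eq_iff_eq_mul]
        exact ((show Commute u (g * x' * g⁻¹) from hgP u hu).zpow_right i).eq
      refine ⟨fun hz => by rw [hc z hz]; exact hz, fun hz => ?_⟩
      have := hc _ hz
      rw [mul_inv_eq_iff_eq_mul, mul_assoc (u * z), inv_mul_cancel, mul_one] at this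
      exact mul_left_cancel this ▸ hz
    exact (P.3 hB le_sup_left).le (mem_sup_right (mem_zpowers _))
  obtain ⟨n, hn, hnd⟩ := exists_normalizer_conj P E hE hEc g (zpowers x')
    (zpowers_le.2 hx'P) (by
      rintro _ ⟨i, rfl⟩
      rw [← conj_zpow]
      exact zpow_mem hgx i)
  have hnx := hnd x' (mem_zpowers _)
  set w : N := ⟨n, hn⟩ * m
  have hle : (((w⁻¹ : N) • PN : Sylow 2 N) : Subgroup N) ≤ centralizer ({x} : Set N) := by
    rintro _ ⟨u, hu, rfl⟩
    refine mem_centralizer_singleton_iff.2 (Subtype.ext ?_)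
    have h1 := hgP (u : G) hu
    rw [← hnx] at h1
    show ((w⁻¹ : N) : G) * u * ((w⁻¹ : N) : G)⁻¹ * x = x * (((w⁻¹ : N) : G) * u * ((w⁻¹ : N) : G)⁻¹)
    simp only [w, hx', Subgroup.coe_inv, Subgroup.coe_mul] at h1 ⊢
    calc (n * (m : G))⁻¹ * u * (n * (m : G))⁻¹⁻¹ * x
        = (n * (m : G))⁻¹ * ((u : G) * (n * ((m : G) * x * (m : G)⁻¹) * n⁻¹)) * (n * (m : G)) := by group
      _ = _ := by rw [h1]; group
  exact fun h => ((w⁻¹ : N) • PN : Sylow 2 N).not_dvd_index (h.trans (index_dvd_of_le hle))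

/-- The hypothesis passes to quotients by a central involution. -/
theorem oddClasses_quotient (hG : OddClasses G) (Z : Subgroup G) [Z.Normal] (hZ : IsPGroup 2 Z) :
    OddClasses (G ⧸ Z) := by
  haveI : Fact (Nat.Prime 2) := ⟨Nat.prime_two⟩
  intro q ⟨k, hk⟩ h
  obtain ⟨x, rfl⟩ := QuotientGroup.mk_surjective q
  obtain ⟨j, hj⟩ := hZ ⟨x ^ 2 ^ k, by
    rw [← QuotientGroup.eq_one_iff, QuotientGroup.mk_pow, ← hk, pow_orderOf_eq_one]⟩
  have hx : ∃ i : ℕ, orderOf x = 2 ^ i := by
    obtain ⟨i, -, hi⟩ := (Nat.dvd_prime_pow Nat.prime_two).1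
      (orderOf_dvd_of_pow_eq_one (n := 2 ^ (k + j)) (x := x) (by
        rw [pow_add, pow_mul]
        exact congrArg Subtype.val hj))
    exact ⟨i, hi⟩
  refine hG x hx (h.trans ((index_dvd_of_le ?_).trans
    (index_map_dvd (centralizer ({x} : Set G)) (f := QuotientGroup.mk' Z) (QuotientGroup.mk'_surjective Z))))
  rintro _ ⟨c, hc, rfl⟩
  refine mem_centralizer_singleton_iff.2 ?_
  show (c : G ⧸ Z) * (x : G ⧸ Z) = (x : G ⧸ Z) * (c : G ⧸ Z)
  rw [← QuotientGroup.mk_mul, ← QuotientGroup.mk_mul, mem_centralizer_singleton_iff.1 hc]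

/-- Two elements with central commutator `z`, the only involution, cannot exist. -/
theorem no_commutator (hG : OddClasses G) (P : Sylow 2 G) {z : G} (hz2 : z * z = 1)
    (huniq : ∀ e ∈ (P : Subgroup G), e * e = 1 → e ≠ 1 → e = z)
    (hzc : ∀ g : G, g * z = z * g) :
    ∀ (k l : ℕ) (a b : G), a ∈ (P : Subgroup G) → b ∈ (P : Subgroup G) → orderOf a = 2 ^ k →
      orderOf b = 2 ^ l → a * b = z * (b * a) → z ≠ 1 → False := by
  intro k l
  induction hkl : k + l using Nat.strong_induction_on generalizing k l with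
  | _ s ih =>
  intro a b ha hb hka hlb hab hz1
  have hzi : z⁻¹ = z := inv_eq_of_mul_eq_one_right hz2
  wlog hle : l ≤ k generalizing k l a b
  · refine this l k (by omega) b a hb ha hlb hka ?_ (by omega)
    rw [hab, ← mul_assoc z z, hz2, one_mul]
  -- both orders are at least four
  have h4 : ∀ c : G, c ∈ (P : Subgroup G) → ∀ i, orderOf c = 2 ^ i → i ≤ 1 → ∀ d : G, c * d = d * c := by
    intro c hc i hi hi1 d
    by_cases hc1 : c = 1
    · rw [hc1, one_mul, mul_one]
    have hcc : c * c = 1 := by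
      rw [← pow_two]
      refine orderOf_dvd_iff_pow_eq_one.1 (hi ▸ ?_)
      calc 2 ^ i ∣ 2 ^ 1 := pow_dvd_pow 2 hi1
        _ = 2 := pow_one 2
    rw [huniq c hc hcc hc1]
    exact (hzc d).symm
  have hne : a * b ≠ b * a := by
    rw [hab]
    intro h
    exact hz1 (mul_right_cancel (h.trans (one_mul _).symm))
  have hl2 : 2 ≤ l := by
    by_contra hl
    exact hne (h4 b hb l hlb (by omega) a).symm
  have hlast : ∀ c : G, c ∈ (P : Subgroup G) → ∀ i, orderOf c = 2 ^ (i + 1) → c ^ 2 ^ i = z := by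
    intro c hc i hi
    refine huniq _ (pow_mem hc _) ?_ ?_
    · rw [← pow_add, show 2 ^ i + 2 ^ i = 2 ^ (i + 1) by rw [pow_succ]; ring, ← hi, pow_orderOf_eq_one]
    · intro h
      have := orderOf_dvd_of_pow_eq_one h
      rw [hi] at this
      have := (Nat.pow_dvd_pow_iff_le_right (by norm_num : 1 < 2)).1 this
      omega
  obtain ⟨l', rfl⟩ : ∃ l', l = l' + 2 := ⟨l - 2, by omega⟩
  obtain ⟨k', rfl⟩ : ∃ k', k = k' + 2 := ⟨k - 2, by omega⟩
  have hza : a ^ 2 ^ (k' + 1) = z := hlast a ha (k' + 1) hka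
  have hzb : b ^ 2 ^ (l' + 1) = z := hlast b hb (l' + 1) hlb
  -- squares are central
  have hsq : Commute (a ^ 2) b := by
    show a ^ 2 * b = b * a ^ 2
    calc a ^ 2 * b = a * (a * b) := by rw [pow_two, mul_assoc]
      _ = a * z * (b * a) := by rw [hab, mul_assoc]
      _ = z * (a * b) * a := by rw [hzc a]; group
      _ = (z * z) * (b * a * a) := by rw [hab]; group
      _ = b * a ^ 2 := by rw [hz2, one_mul, pow_two, mul_assoc]
  have hbinv : b * a⁻¹ * a = b := inv_mul_cancel_right b a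
  rcases Nat.lt_or_ge l' k' with hlt | hge
  · -- subtract an even power of `a` from `b`
    obtain ⟨d, rfl⟩ : ∃ d, k' = l' + (d + 1) := ⟨k' - l' - 1, by omega⟩
    set c := (a ^ 2) ^ 2 ^ d
    have hcb : Commute b c := (hsq.symm.pow_right _)
    have hpow : (b * c) ^ 2 ^ (l' + 1) = 1 := by
      rw [hcb.mul_pow, hzb, ← pow_mul, ← pow_mul, show 2 * (2 ^ d * 2 ^ (l' + 1)) = 2 ^ (l' + (d + 1) + 1) by
        simp only [pow_add, pow_one]; ring, hza, hz2]
    obtain ⟨i, hi, hio⟩ := (Nat.dvd_prime_pow Nat.prime_two).1 (orderOf_dvd_of_pow_eq_one hpow)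
    refine ih (l' + (d + 1) + 2 + i) (by omega) (l' + (d + 1) + 2) i rfl a (b * c) ha
      (mul_mem hb (pow_mem (pow_mem ha 2) _)) hka hio ?_ hz1
    have hca : c * a = a * c := by
      show (a ^ 2) ^ 2 ^ d * a = a * (a ^ 2) ^ 2 ^ d
      exact (((Commute.refl a).pow_left 2).pow_left (2 ^ d)).eq
    calc a * (b * c) = z * (b * a) * c := by rw [← mul_assoc, hab]
      _ = z * (b * (a * c)) := by group
      _ = z * (b * c * a) := by rw [← hca]; group
  · obtain rfl : l' = k' := by omega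
    by_cases hl0 : l' = 0
    · -- quaternion case
      subst hl0
      have h2 : a * a = z := by rw [← pow_two]; exact hza
      have hai : a⁻¹ = a * z := inv_eq_of_mul_eq_one_right (by rw [← mul_assoc, h2, hz2])
      refine absurd (mul_self_eq_one (hG a ⟨2, hka⟩) (y := b) ?_) (by rw [h2]; exact hz1)
      rw [hai, mul_inv_eq_iff_eq_mul]
      calc b * a = z * (z * (b * a)) := by rw [← mul_assoc z, hz2, one_mul]
        _ = z * (a * b) := by rw [hab]
        _ = a * z * b := by rw [hzc a]; group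
    · obtain ⟨m, rfl⟩ : ∃ m, l' = m + 1 := ⟨l' - 1, by omega⟩
      set c := b * a⁻¹
      have hc2 : c ^ 2 = b ^ 2 * (a ^ 2)⁻¹ * z := by
        have h1 : a⁻¹ * b = z * (b * a⁻¹) := by
          rw [inv_mul_eq_iff_eq_mul, ← mul_assoc a z, hzc a, mul_assoc z, ← mul_assoc a b, hab,
            mul_assoc z (b * a), mul_assoc b a, mul_inv_cancel, mul_one, ← mul_assoc, hz2, one_mul]
        calc c ^ 2 = b * (a⁻¹ * b) * a⁻¹ := by rw [pow_two]; show b * a⁻¹ * (b * a⁻¹) = _; group
          _ = (b * z) * (b * a⁻¹ * a⁻¹) := by rw [h1]; group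
          _ = z * (b ^ 2 * (a ^ 2)⁻¹) := by rw [hzc b, pow_two, pow_two]; group
          _ = _ := by rw [hzc _]
      have hpow : c ^ 2 ^ (m + 2) = 1 := by
        rw [show 2 ^ (m + 2) = 2 * 2 ^ (m + 1) by rw [pow_succ 2 (m + 1)]; ring, pow_mul, hc2,
          (show Commute (b ^ 2 * (a ^ 2)⁻¹) z from hzc _).mul_pow,
          ((hsq.symm.pow_left 2).inv_right).mul_pow, inv_pow, ← pow_mul, ← pow_mul,
          show 2 * 2 ^ (m + 1) = 2 ^ (m + 2) by rw [pow_succ 2 (m + 1)]; ring]
        rw [hza, hzb, mul_inv_cancel, one_mul, pow_succ', pow_mul, pow_two, hz2, one_pow]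
      obtain ⟨i, hi, hio⟩ := (Nat.dvd_prime_pow Nat.prime_two).1 (orderOf_dvd_of_pow_eq_one hpow)
      refine ih (m + 1 + 2 + i) (by omega) (m + 1 + 2) i rfl a c ha (mul_mem hb (inv_mem ha)) hka hio ?_ hz1
      calc a * (b * a⁻¹) = z * (b * a) * a⁻¹ := by rw [← mul_assoc, hab]
        _ = z * (b * a⁻¹ * a) := by group

theorem abelian_aux : ∀ (n : ℕ) (G : Type u) [Group G] [Finite G], Nat.card G = n → OddClasses G →
    ∀ P : Sylow 2 G, ∀ a ∈ (P : Subgroup G), ∀ b ∈ (P : Subgroup G), a * b = b * a := by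
  intro n
  induction n using Nat.strong_induction_on with
  | _ n ih =>
  intro G _ _ hn hG P
  haveI : Fact (Nat.Prime 2) := ⟨Nat.prime_two⟩
  let E : Subgroup G :=
    { carrier := {x | x ∈ (P : Subgroup G) ∧ x * x = 1}
      one_mem' := ⟨one_mem _, one_mul 1⟩
      mul_mem' := by
        rintro s t ⟨hs, hs2⟩ ⟨ht, ht2⟩
        refine ⟨mul_mem hs ht, ?_⟩
        calc s * t * (s * t) = s * t * (t * s) := by rw [comm_involutions hG P hs ht hs2 ht2]
          _ = s * (t * t) * s := by group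
          _ = 1 := by rw [ht2, mul_one, hs2]
      inv_mem' := by
        rintro s ⟨hs, hs2⟩
        exact ⟨inv_mem hs, by rw [← mul_inv_rev, hs2, inv_one]⟩ }
  have hE : ∀ x, x ∈ E ↔ x ∈ (P : Subgroup G) ∧ x * x = 1 := fun x => Iff.rfl
  have hEc : ∀ a ∈ E, ∀ b ∈ E, a * b = b * a := fun a ha b hb =>
    comm_involutions hG P ha.1 hb.1 ha.2 hb.2
  have hEP : E ≤ (P : Subgroup G) := fun x hx => hx.1
  have hPN : (P : Subgroup G) ≤ normalizer (E : Set G) := fun u hu => by
    refine mem_normalizer_iff.2 fun x => ?_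
    rw [hE, hE]
    refine and_congr ⟨fun hx => mul_mem (mul_mem hu hx) (inv_mem hu), fun hx => ?_⟩ ?_
    · have := mul_mem (mul_mem (inv_mem hu) hx) hu
      rwa [show u⁻¹ * (u * x * u⁻¹) * u = x by group] at this
    · rw [show u * x * u⁻¹ * (u * x * u⁻¹) = u * (x * x) * u⁻¹ by group, conj_eq_one_iff]
  have down : ∀ H : Subgroup G, H ≠ ⊤ → (P : Subgroup G) ≤ H → OddClasses H →
      ∀ a ∈ (P : Subgroup G), ∀ b ∈ (P : Subgroup G), a * b = b * a := by
    intro H hH hPH hHc a ha b hb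
    have hlt : Nat.card H < n := hn ▸ lt_of_le_of_ne (card_le_card_group H) (fun h => hH ((card_eq_iff_eq_top H).1 h))
    exact congrArg Subtype.val (ih _ hlt H rfl hHc (P.subtype hPH) ⟨a, hPH ha⟩ ha ⟨b, hPH hb⟩ hb)
  by_cases hN : normalizer (E : Set G) = ⊤
  swap
  · exact down _ hN hPN (oddClasses_normalizer hG P E hE hEc hPN)
  haveI : E.Normal := normalizer_eq_top_iff.1 hN
  have hPK : (P : Subgroup G) ≤ centralizer (E : Set G) := by
    intro x hx
    have hidx := hG x (exists_pow_of_mem P hx)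
    obtain ⟨Q⟩ : Nonempty (Sylow 2 (centralizer ({x} : Set G))) := inferInstance
    let Q' : Sylow 2 G := (Q.2.map (centralizer ({x} : Set G)).subtype).toSylow (by
      rw [index_map_subtype]
      exact fun h => ((Nat.prime_two.dvd_mul).1 h).elim Q.not_dvd_index hidx)
    obtain ⟨g, hg⟩ := MulAction.exists_smul_eq G Q' P
    refine mem_centralizer_iff.2 fun e he => ?_
    have h1 : g * e * g⁻¹ ∈ (P : Subgroup G) := hEP (Subgroup.Normal.conj_mem inferInstance e he g)
    rw [← hg] at h1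
    obtain ⟨q, hq, hqe⟩ := h1
    have hqe : g * q * g⁻¹ = g * e * g⁻¹ := hqe
    obtain rfl : q = e := mul_left_cancel (mul_right_cancel hqe)
    exact mem_centralizer_singleton_iff.1 (map_subtype_le _ hq)
  by_cases hK : centralizer (E : Set G) = ⊤
  swap
  · exact down _ hK hPK (oddClasses_normal hG _)
  intro a ha b hb
  by_contra hab
  have hcen : ∀ e ∈ E, ∀ g : G, g * e = e * g := fun e he g =>
    (mem_centralizer_iff.1 (hK.ge (mem_top g)) e he).symm
  have hcomm : ∀ z ∈ E, z ≠ 1 → a * b * a⁻¹ * b⁻¹ ∈ zpowers z := by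
    intro z hz hz1
    have hzord : orderOf z = 2 := orderOf_eq_prime (by rw [pow_two]; exact hz.2) hz1
    haveI : (zpowers z).Normal := ⟨fun w hw g => by
      obtain ⟨i, rfl⟩ := mem_zpowers_iff.1 hw
      rw [← conj_zpow, hcen z hz g, mul_inv_cancel_right]
      exact hw⟩
    have hZ : IsPGroup 2 (zpowers z) := IsPGroup.of_card (n := 1) (by rw [Nat.card_zpowers, hzord, pow_one])
    have hlt : Nat.card (G ⧸ zpowers z) < n := by
      have h1 := card_eq_card_quotient_mul_card_subgroup (zpowers z)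
      rw [hn, Nat.card_zpowers, hzord] at h1
      have : 0 < Nat.card (G ⧸ zpowers z) := Nat.card_pos
      omega
    let P' : Sylow 2 (G ⧸ zpowers z) :=
      P.mapSurjective (f := QuotientGroup.mk' (zpowers z)) (QuotientGroup.mk'_surjective _)
    have h2 := ih _ hlt (G ⧸ zpowers z) rfl (oddClasses_quotient hG _ hZ) P' (a : G ⧸ zpowers z) ⟨a, ha, rfl⟩
      (b : G ⧸ zpowers z) ⟨b, hb, rfl⟩
    rw [← QuotientGroup.eq_one_iff, QuotientGroup.mk_mul, QuotientGroup.mk_mul, QuotientGroup.mk_mul,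
      QuotientGroup.mk_inv, QuotientGroup.mk_inv, h2]
    group
  obtain ⟨k, hk⟩ := exists_pow_of_mem P ha
  obtain ⟨l, hl⟩ := exists_pow_of_mem P hb
  have ha1 : a ≠ 1 := fun h => hab (by rw [h, one_mul, mul_one])
  obtain ⟨k', rfl⟩ : ∃ k', k = k' + 1 := Nat.exists_eq_add_one.2 (Nat.pos_of_ne_zero fun h => ha1
    (orderOf_eq_one_iff.1 (by rw [hk, h, pow_zero])))
  set z := a ^ 2 ^ k'
  have hz1 : z ≠ 1 := by
    intro h
    have := orderOf_dvd_of_pow_eq_one h
    rw [hk] at this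
    have := (Nat.pow_dvd_pow_iff_le_right (by norm_num : 1 < 2)).1 this
    omega
  have hz : z ∈ E := ⟨pow_mem ha _, by
    rw [← pow_add, show 2 ^ k' + 2 ^ k' = 2 ^ (k' + 1) by rw [pow_succ]; ring, ← hk, pow_orderOf_eq_one]⟩
  have hab1 : a * b * a⁻¹ * b⁻¹ ≠ 1 := fun h => hab (by
    rwa [mul_inv_eq_one, mul_inv_eq_iff_eq_mul] at h)
  have key : ∀ e ∈ E, e ≠ 1 → a * b * a⁻¹ * b⁻¹ = e := by
    intro e he he1
    obtain ⟨i, hi⟩ := mem_zpowers_iff.1 (hcomm e he he1)
    rcases Int.even_or_odd i with ⟨j, rfl⟩ | ⟨j, rfl⟩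
    · refine absurd ?_ hab1
      rw [← hi, zpow_add, ← Commute.mul_zpow (Commute.refl e), he.2, one_zpow]
    · rw [← hi, zpow_add, zpow_mul, zpow_one, show e ^ (2 : ℤ) = 1 by rw [zpow_two]; exact he.2, one_zpow, one_mul]
  refine no_commutator hG P hz.2 (fun e he he2 he1 => (key e ⟨he, he2⟩ he1).symm.trans (key z hz hz1))
    (hcen z hz) (k' + 1) l a b ha hb hk hl ?_ hz1
  rw [← key z hz hz1]
  group

theorem abelian_of_oddClasses (hG : OddClasses G) (P : Sylow 2 G) : IsMulCommutative P :=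
  ⟨⟨fun a b => Subtype.ext (abelian_aux _ G rfl hG P a a.2 b b.2)⟩⟩

end CfsgLib.TwoCentral
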